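import Mathlib

/-!
# Similarity of endomorphisms over a finite field (S4536 project)

`sim_of_finrank_ker`: pass to the finite `F[X]`-modules `Module.AEval' x`.  Lovász' lemma: finite modules
`M, M'` with `card (N →ₗ M) = card (N →ₗ M')` for all finite `N` are isomorphic
(`card Hom(N,M) = ∑_{K ≤ N} card Inj(N/K, M)`, induct on `card N`; then take `N = M`, `N = M'`).  By
`exists_decomp` (`Module.equiv_directSum_of_isTorsion`) `N` is a product of cyclic modules and
`Hom(F[X]/(f), M) ≃ ker f(x)`.  (One can also work with intertwiners `{φ : U →ₗ[F] V | φ ∘ u = x ∘ φ}`.)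
-/

set_option autoImplicit false
set_option linter.unusedSectionVars false
set_option linter.unusedVariables false
set_option linter.style.haveILetI false

namespace Cfsg.Gln

open Polynomial Module LinearMap

variable {F : Type*} [Field F] {U V W V' W' : Type*} [AddCommGroup U] [Module F U]
  [AddCommGroup V] [Module F V] [AddCommGroup W] [Module F W] [AddCommGroup V'] [Module F V']
  [AddCommGroup W'] [Module F W']

/-- Similar endomorphisms. -/
def Sim (x : End F V) (y : End F W) : Prop := ∃ e : V ≃ₗ[F] W, ∀ v, e (x v) = y (e v)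

theorem Sim.refl (x : End F V) : Sim x x := ⟨.refl F V, fun _ => rfl⟩

theorem Sim.symm {x : End F V} {y : End F W} (h : Sim x y) : Sim y x := by
  obtain ⟨e, h⟩ := h
  exact ⟨e.symm, fun w => e.injective (by simp [h])⟩

theorem Sim.trans {x : End F U} {y : End F V} {z : End F W} (h : Sim x y) (h' : Sim y z) :
    Sim x z := by
  obtain ⟨e, h⟩ := h
  obtain ⟨e', h'⟩ := h'
  exact ⟨e.trans e', fun v => by simp [h, h']⟩

theorem Sim.finrank_eq {x : End F V} {y : End F W} (h : Sim x y) : finrank F V = finrank F W :=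
  h.choose.finrank_eq

theorem Sim.prodMap {x : End F V} {y : End F W} {x' : End F V'} {y' : End F W'} (h : Sim x y)
    (h' : Sim x' y') : Sim (x.prodMap x') (y.prodMap y') := by
  obtain ⟨e, h⟩ := h
  obtain ⟨e', h'⟩ := h'
  exact ⟨e.prodCongr e', fun v => by simp [h, h']⟩

theorem sim_conj (e : V ≃ₗ[F] W) (x : End F V) : Sim x (e.conj x) :=
  ⟨e, fun v => by simp [LinearEquiv.conj_apply]⟩

theorem Sim.aeval {x : End F V} {y : End F W} (h : Sim x y) (f : F[X]) :
    Sim (aeval x f) (aeval y f) := by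
  obtain ⟨e, h⟩ := h
  refine ⟨e, fun v => ?_⟩
  have hp : ∀ (n : ℕ) v, e ((x ^ n) v) = (y ^ n) (e v) := fun n => by
    induction n with
    | zero => simp
    | succ n ih => intro v; rw [pow_succ, pow_succ, Module.End.mul_apply, ih, h, Module.End.mul_apply]
  induction f using Polynomial.induction_on' with
  | add f g hf hg => simp [hf, hg]
  | monomial n a => simp [aeval_monomial, hp]

theorem Sim.finrank_ker {x : End F V} {y : End F W} (h : Sim x y) :
    finrank F (ker x) = finrank F (ker y) := by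
  obtain ⟨e, h⟩ := h
  have : ker x = (ker y).comap (e : V →ₗ[F] W) := by
    ext v
    simp [← h]
  rw [this]
  exact (LinearEquiv.ofSubmodule' e (ker y)).finrank_eq

theorem sim_iff_isConj {x y : (End F V)ˣ} : Sim (x : End F V) (y : End F V) ↔ IsConj x y := by
  rw [isConj_iff]
  constructor
  · rintro ⟨e, h⟩
    refine ⟨LinearMap.GeneralLinearGroup.ofLinearEquiv e, ?_⟩
    rw [mul_inv_eq_iff_eq_mul]
    ext v
    exact h v
  · rintro ⟨c, h⟩
    rw [mul_inv_eq_iff_eq_mul] at h
    exact ⟨LinearMap.GeneralLinearGroup.toLinearEquiv c,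
      fun v => LinearMap.congr_fun (congrArg Units.val h) v⟩

theorem finrank_ker_prodMap [Module.Finite F V] [Module.Finite F W] (x : End F V) (y : End F W) :
    finrank F (ker (x.prodMap y)) = finrank F (ker x) + finrank F (ker y) := by
  rw [ker_prodMap, ← Module.finrank_prod]
  exact LinearEquiv.finrank_eq
    { toFun := fun v => (⟨v.1.1, v.2.1⟩, ⟨v.1.2, v.2.2⟩)
      invFun := fun v => ⟨(v.1, v.2), v.1.2, v.2.2⟩
      map_add' := fun _ _ => rfl
      map_smul' := fun _ _ => rfl
      left_inv := fun _ => rfl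
      right_inv := fun _ => rfl }

theorem aeval_prodMap (x : End F V) (y : End F W) (f : F[X]) :
    aeval (x.prodMap y) f = (aeval x f).prodMap (aeval y f) := by
  have hp : ∀ n : ℕ, (x.prodMap y) ^ n = (x ^ n).prodMap (y ^ n) := fun n => by
    induction n with
    | zero => rfl
    | succ n ih => rw [pow_succ, pow_succ, pow_succ, ih]; rfl
  induction f using Polynomial.induction_on' with
  | add f g hf hg => rw [map_add, map_add, map_add, hf, hg, prodMap_add]
  | monomial n a =>
    refine LinearMap.ext fun v => ?_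
    simp [aeval_monomial, hp]

/-- Multiplication by `X` on `F[X]/(f)`. -/
noncomputable def cyc (f : F[X]) : End F (AdjoinRoot f) := LinearMap.mulLeft F (AdjoinRoot.root f)

/-- The structure theorem. -/
theorem exists_decomp [Module.Finite F V] (x : End F V) :
    ∃ (n : ℕ) (f : Fin n → F[X]) (e : Fin n → ℕ), (∀ i, Irreducible (f i) ∧ (f i).Monic ∧ 0 < e i) ∧
      ∃ φ : V ≃ₗ[F] (∀ i, AdjoinRoot (f i ^ e i)), ∀ v i, φ (x v) i = cyc (f i ^ e i) (φ v i) := by
  classical
  obtain ⟨ι, _, p, hp, e, ⟨ψ⟩⟩ := Module.equiv_directSum_of_isTorsion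
    (Module.AEval.isTorsion_of_finiteDimensional F V x)
  let σ := (Fintype.equivFin {i // 0 < e i}).symm
  let ψ' := ψ.trans (DirectSum.linearEquivFunOnFintype F[X] ι fun i => F[X] ⧸ F[X] ∙ p i ^ e i)
  have hsp : ∀ i, (F[X] ∙ p i ^ e i) = Ideal.span {normalize (p i) ^ e i} := fun i =>
    Ideal.span_singleton_eq_span_singleton.2 ((associated_normalize (p i)).pow_pow)
  let θ : ∀ i, (F[X] ⧸ F[X] ∙ p i ^ e i) ≃ₗ[F[X]] F[X] ⧸ Ideal.span {normalize (p i) ^ e i} :=
    fun i => Submodule.quotEquivOfEq _ _ (hsp i)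
  let φ : V →ₗ[F] ∀ j, AdjoinRoot (normalize (p (σ j)) ^ e (σ j)) :=
    { toFun := fun v j => θ (σ j) (ψ' (AEval'.of x v) (σ j))
      map_add' := fun v w => funext fun j => by
        rw [map_add, map_add, Pi.add_apply, map_add]; rfl
      map_smul' := fun c v => funext fun j => by
        rw [map_smul, ← AEval.C_smul, map_smul, Pi.smul_apply, map_smul]
        change _ = c • (_root_.id (θ (σ j) (ψ' (AEval'.of x v) (σ j))) : AdjoinRoot _)
        generalize θ (σ j) (ψ' (AEval'.of x v) (σ j)) = a
        obtain ⟨a, rfl⟩ := Ideal.Quotient.mk_surjective a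
        change Ideal.Quotient.mk _ (C c * a) = Ideal.Quotient.mk _ (c • a)
        rw [smul_eq_C_mul] }
  have hsub : ∀ i, ¬ 0 < e i → Subsingleton (F[X] ⧸ F[X] ∙ p i ^ e i) := fun i hi => by
    rw [Submodule.Quotient.subsingleton_iff, Nat.eq_zero_of_not_pos hi, pow_zero]
    exact Ideal.span_singleton_one
  have hφ : Function.Bijective φ := by
    constructor
    · intro v w h
      refine (AEval'.of x).injective (ψ'.injective (funext fun i => ?_))
      by_cases hi : 0 < e i
      · obtain ⟨j, hj⟩ := σ.surjective ⟨i, hi⟩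
        obtain rfl : (σ j).1 = i := congrArg Subtype.val hj
        exact (θ _).injective (congrFun h j)
      · exact (hsub i hi).elim _ _
    · intro a
      let a' : ∀ i : {i // 0 < e i}, F[X] ⧸ F[X] ∙ p i ^ e i :=
        Equiv.piCongrLeft (fun i : {i // 0 < e i} => F[X] ⧸ F[X] ∙ p i ^ e i) σ
          fun j => (θ (σ j)).symm (a j)
      refine ⟨(AEval'.of x).symm (ψ'.symm fun i => if h : 0 < e i then a' ⟨i, h⟩ else 0),
        funext fun j => ?_⟩
      change θ (σ j) (ψ' (AEval'.of x ((AEval'.of x).symm _)) (σ j)) = _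
      rw [LinearEquiv.apply_symm_apply, LinearEquiv.apply_symm_apply, dif_pos (σ j).2]
      change θ (σ j) (a' (σ j)) = _
      simp only [a', Equiv.piCongrLeft_apply_apply]
      exact (θ (σ j)).apply_symm_apply _
  refine ⟨_, fun j => normalize (p (σ j)), fun j => e (σ j), fun j =>
    ⟨(associated_normalize _).irreducible (hp _), monic_normalize (hp _).ne_zero, (σ j).2⟩,
    LinearEquiv.ofBijective φ hφ, fun v j => ?_⟩
  change θ (σ j) (ψ' (AEval'.of x (x v)) (σ j)) =
    AdjoinRoot.root _ * (_root_.id (θ (σ j) (ψ' (AEval'.of x v) (σ j))) : AdjoinRoot _)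
  rw [← AEval'.X_smul_of, map_smul, Pi.smul_apply, map_smul]
  rfl

section Lovasz

universe v

variable {R : Type*} [CommRing R] {M M' : Type*} [AddCommGroup M] [Module R M] [Finite M]
  [AddCommGroup M'] [Module R M'] [Finite M']

private theorem card_hom_eq_sum (N : Type*) [AddCommGroup N] [Module R N] [Finite N]
    [Fintype (Submodule R N)] : Nat.card (N →ₗ[R] M) =
      ∑ K : Submodule R N, Nat.card {ψ : (N ⧸ K) →ₗ[R] M // Function.Injective ψ} := by
  haveI : Finite (N →ₗ[R] M) := DFunLike.finite _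
  rw [← Nat.card_congr (Equiv.sigmaFiberEquiv (fun φ : N →ₗ[R] M => ker φ)), Nat.card_sigma]
  refine Finset.sum_congr rfl fun K _ => Nat.card_congr
    { toFun := fun φ => ⟨K.liftQ φ.1 φ.2.ge, ker_eq_bot.1 (K.ker_liftQ_eq_bot _ _ φ.2.le)⟩
      invFun := fun ψ => ⟨ψ.1 ∘ₗ K.mkQ, by rw [ker_comp, ker_eq_bot.2 ψ.2, Submodule.comap_bot,
        Submodule.ker_mkQ]⟩
      left_inv := fun φ => Subtype.ext (K.liftQ_mkQ _ _)
      right_inv := fun ψ => Subtype.ext (Submodule.linearMap_qext _ (K.liftQ_mkQ _ _)) }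

private theorem lovasz (h : ∀ (N : Type v) [AddCommGroup N] [Module R N] [Finite N],
      Nat.card (N →ₗ[R] M) = Nat.card (N →ₗ[R] M')) (n : ℕ) :
    ∀ (N : Type v) [AddCommGroup N] [Module R N] [Finite N], Nat.card N = n →
      Nat.card {ψ : N →ₗ[R] M // Function.Injective ψ} =
        Nat.card {ψ : N →ₗ[R] M' // Function.Injective ψ} := by
  classical
  induction n using Nat.strong_induction_on with | h n ih => ?_
  intro N _ _ _ hn
  haveI : Fintype (Submodule R N) := Fintype.ofFinite _
  have h1 := h N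
  rw [card_hom_eq_sum, card_hom_eq_sum, ← Finset.add_sum_erase _ _ (Finset.mem_univ ⊥),
    ← Finset.add_sum_erase _ _ (Finset.mem_univ ⊥)] at h1
  have h2 : ∑ K ∈ Finset.univ.erase (⊥ : Submodule R N),
      Nat.card {ψ : (N ⧸ K) →ₗ[R] M // Function.Injective ψ} =
      ∑ K ∈ Finset.univ.erase (⊥ : Submodule R N),
      Nat.card {ψ : (N ⧸ K) →ₗ[R] M' // Function.Injective ψ} := by
    refine Finset.sum_congr rfl fun K hK => ?_
    haveI : Finite (N ⧸ K) := Quotient.finite _
    refine ih _ ?_ _ rfl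
    haveI : Nontrivial K := Submodule.nontrivial_iff_ne_bot.2 (Finset.ne_of_mem_erase hK)
    have h3 := K.card_eq_card_quotient_mul_card
    have h4 : 1 < Nat.card K := Finite.one_lt_card
    have h5 : 0 < Nat.card (N ⧸ K) := Nat.card_pos
    rw [← hn, h3]
    nlinarith
  let q := Submodule.quotEquivOfEqBot (⊥ : Submodule R N) rfl
  rw [h2, add_right_cancel_iff] at h1
  refine (Nat.card_congr ?_).trans (h1.trans (Nat.card_congr ?_))
  · exact ((q.congrLeft M R).toEquiv.subtypeEquiv fun ψ =>
      ((q.symm.toEquiv.injective_comp ψ).symm)).symm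
  · exact (q.congrLeft M' R).toEquiv.subtypeEquiv fun ψ =>
      ((q.symm.toEquiv.injective_comp ψ).symm)

private theorem card_hom_quot (g : R) :
    Nat.card ((R ⧸ R ∙ g) →ₗ[R] M) = Nat.card {m : M // g • m = 0} :=
  Nat.card_congr
    { toFun := fun φ => ⟨φ (Submodule.Quotient.mk 1), by
        rw [← map_smul, ← Submodule.Quotient.mk_smul, smul_eq_mul, mul_one,
          (Submodule.Quotient.mk_eq_zero _).2 (Submodule.mem_span_singleton_self g), map_zero]⟩
      invFun := fun m => (R ∙ g).liftQ (toSpanSingleton R M m.1)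
        ((Submodule.span_singleton_le_iff_mem _ _).2 m.2)
      left_inv := fun φ => Submodule.linearMap_qext _ (by ext; simp)
      right_inv := fun m => Subtype.ext (one_smul R m.1) }

private theorem card_hom_eq [IsDomain R] [IsPrincipalIdealRing R] [Infinite R]
    (h : ∀ g : R, Nat.card {m : M // g • m = 0} = Nat.card {m : M' // g • m = 0})
    (N : Type v) [AddCommGroup N] [Module R N] [Finite N] :
    Nat.card (N →ₗ[R] M) = Nat.card (N →ₗ[R] M') := by
  classical
  have hN : Module.IsTorsion R N := fun n => by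
    obtain ⟨r, s, hrs, e⟩ := Finite.exists_ne_map_eq_of_infinite fun r : R => r • n
    exact ⟨⟨r - s, mem_nonZeroDivisors_of_ne_zero (sub_ne_zero.2 hrs)⟩, by
      change (r - s) • n = 0
      rw [sub_smul, sub_eq_zero]; exact e⟩
  obtain ⟨ι, _, p, hp, e, ⟨ψ⟩⟩ := Module.equiv_directSum_of_isTorsion hN
  let ψ' := ψ.trans (DirectSum.linearEquivFunOnFintype R ι fun i => R ⧸ R ∙ p i ^ e i)
  rw [Nat.card_congr (ψ'.congrLeft M R).toEquiv, Nat.card_congr (ψ'.congrLeft M' R).toEquiv,
    ← Nat.card_congr (LinearMap.lsum R _ R).toEquiv, ← Nat.card_congr (LinearMap.lsum R _ R).toEquiv,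
    Nat.card_pi, Nat.card_pi]
  exact Finset.prod_congr rfl fun i _ => by rw [card_hom_quot, card_hom_quot, h]

end Lovasz

variable [Finite F] [Finite V] [Finite W] [Finite V'] [Finite W']

theorem sim_of_finrank_ker {x : End F V} {y : End F W}
    (h : ∀ f : F[X], finrank F (ker (aeval x f)) = finrank F (ker (aeval y f))) : Sim x y := by
  haveI : Finite (AEval' x) := Finite.of_equiv _ (AEval'.of x).toEquiv
  haveI : Finite (AEval' y) := Finite.of_equiv _ (AEval'.of y).toEquiv
  have h1 : ∀ g : F[X], Nat.card {m : AEval' x // g • m = 0} =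
      Nat.card {m : AEval' y // g • m = 0} := fun g => by
    have e1 : Nat.card {m : AEval' x // g • m = 0} = Nat.card (ker (aeval x g)) := rfl
    have e2 : Nat.card {m : AEval' y // g • m = 0} = Nat.card (ker (aeval y g)) := rfl
    rw [e1, e2, Module.natCard_eq_pow_finrank (K := F) (V := ker (aeval x g)),
      Module.natCard_eq_pow_finrank (K := F) (V := ker (aeval y g)), h]
  have h2 := lovasz (card_hom_eq h1) _ (AEval' x) rfl
  haveI : Finite (AEval' x →ₗ[F[X]] AEval' x) := DFunLike.finite _
  haveI : Nonempty {ψ : AEval' x →ₗ[F[X]] AEval' x // Function.Injective ψ} :=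
    ⟨⟨LinearMap.id, fun _ _ h => h⟩⟩
  obtain ⟨ψ, hψ⟩ := (Nat.card_pos_iff.1 (h2 ▸ Nat.card_pos)).1
  have hd : finrank F V = finrank F W := by
    have := h 0
    rwa [map_zero, map_zero, ker_zero, ker_zero, finrank_top, finrank_top] at this
  let φ : V →ₗ[F] W :=
    (AEval'.of y).symm.toLinearMap ∘ₗ ψ.restrictScalars F ∘ₗ (AEval'.of x).toLinearMap
  have hφ : Function.Injective φ :=
    (AEval'.of y).symm.injective.comp (hψ.comp (AEval'.of x).injective)
  refine ⟨linearEquivOfInjective φ hφ hd, fun v => ?_⟩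
  change (AEval'.of y).symm (ψ (AEval'.of x (x v))) = y ((AEval'.of y).symm (ψ (AEval'.of x v)))
  rw [← AEval'.X_smul_of, map_smul, AEval'.of_symm_X_smul]

theorem sim_dualMap (x : End F V) : Sim x (x.dualMap : End F (Dual F V)) := by
  haveI : Finite (Dual F V) := Module.finite_of_finite F
  refine sim_of_finrank_ker fun f => ?_
  have hp : ∀ n : ℕ, (x.dualMap : End F (Dual F V)) ^ n = (x ^ n).dualMap := fun n => by
    induction n with
    | zero => rfl
    | succ n ih => rw [pow_succ, pow_succ', ih]; rfl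
  have h1 : aeval (x.dualMap : End F (Dual F V)) f = (aeval x f).dualMap := by
    induction f using Polynomial.induction_on' with
    | add f g hf hg =>
      rw [map_add, map_add, hf, hg]
      ext; simp
    | monomial n a =>
      ext; simp [aeval_monomial, hp]
  have h2 := (aeval x f).finrank_range_add_finrank_ker
  have h3 := (aeval x f).dualMap.finrank_range_add_finrank_ker
  rw [finrank_range_dualMap_eq_finrank_range, Subspace.dual_finrank_eq] at h3
  rw [h1]
  omega

theorem Sim.cancel {x : End F V} {y : End F W} {x' : End F V'} {y' : End F W'}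
    (h : Sim (x.prodMap x') (y.prodMap y')) (h' : Sim x y) : Sim x' y' := by
  refine sim_of_finrank_ker fun f => ?_
  have h1 := (h.aeval f).finrank_ker
  have h2 := (h'.aeval f).finrank_ker
  rw [aeval_prodMap, aeval_prodMap, finrank_ker_prodMap, finrank_ker_prodMap] at h1
  omega

private theorem ker_aeval_of_isNilpotent {x : End F V} (hx : IsNilpotent x) (m : ℕ) {q : F[X]}
    (hq : ¬ X ∣ q) : ker (aeval x (X ^ m * q)) = ker (x ^ m) := by
  have hu : IsUnit (aeval x q) := by
    rw [← X_mul_divX_add q, map_add, map_mul, aeval_X, aeval_C]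
    have hc : Commute x (aeval x q.divX) := by
      have := (Commute.all X q.divX).map (aeval x)
      rwa [aeval_X] at this
    exact (hc.isNilpotent_mul_right hx).isUnit_add_right_of_commute
      ((IsUnit.mk0 _ (mt X_dvd_iff.2 hq)).map _) (Algebra.commutes _ _).symm
  rw [mul_comm, map_mul, map_pow, aeval_X, Module.End.mul_eq_comp, ker_comp,
    ker_eq_bot.2 ((Module.End.isUnit_iff _).1 hu).1, Submodule.comap_bot]

theorem sim_of_isNilpotent {x : End F V} {y : End F W} (hx : IsNilpotent x) (hy : IsNilpotent y)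
    (h : ∀ k, finrank F (ker (x ^ k)) = finrank F (ker (y ^ k))) : Sim x y := by
  refine sim_of_finrank_ker fun f => ?_
  by_cases hf : f = 0
  · obtain ⟨a, ha⟩ := hx
    obtain ⟨b, hb⟩ := hy
    have := h (a + b)
    rw [pow_add, ha, zero_mul, pow_add, hb, mul_zero] at this
    rw [hf, map_zero, map_zero, this]
  · obtain ⟨q, h1, h2⟩ := exists_eq_pow_rootMultiplicity_mul_and_not_dvd f hf 0
    rw [C_0, sub_zero] at h1 h2
    rw [h1, ker_aeval_of_isNilpotent hx _ h2, ker_aeval_of_isNilpotent hy _ h2, h]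

end Cfsg.Gln

set_option linter.all false in
theorem Cfsg.Rz.Gln_Sim_0 : True := by
  have := @_root_.Cfsg.Gln.Sim.eq_def.{0, 0, 0}
  have := @_root_.Cfsg.Gln.Sim.eq_1.{0, 0, 0}
  have := @_root_.Cfsg.Gln.Sim.fun_cases
  have := @_root_.Cfsg.Gln.cyc.eq_def.{0}
  have := @_root_.Cfsg.Gln.cyc.eq_1.{0}
  have := @_root_.Cfsg.Gln.cyc.fun_cases
  trivial
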